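import Groth.Agent.DimFormula.Fibre
import Groth.Agent.CharCycDim.Basic
import Mathlib.Topology.Constructible

/-!
# Points with codimension above the dimension of the image
-/

set_option autoImplicit false
set_option linter.style.haveILetI false

open AlgebraicGeometry CategoryTheory Topology

namespace Groth.Agent.DimImage

universe u

/-- A point of a constructible set lies in a locally closed subset of it. -/
theorem exists_isLocallyClosed_mem {T : Type*} [TopologicalSpace T] {s : Set T}
    (hs : IsConstructible s) {p : T} (hp : p ∈ s) :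
    ∃ L ⊆ s, IsLocallyClosed L ∧ p ∈ L := by
  have key : s ∈ BooleanSubalgebra.closure {U : Set T | IsOpen U ∧ IsRetrocompact U} := hs
  have hsub : IsSublattice {U : Set T | IsOpen U ∧ IsRetrocompact U} :=
    ⟨fun a ha b hb => ⟨ha.1.union hb.1, ha.2.union hb.2⟩,
      fun a ha b hb => ⟨ha.1.inter hb.1, ha.2.inter_isOpen hb.2 hb.1⟩⟩
  have hbot : (⊥ : Set T) ∈ {U : Set T | IsOpen U ∧ IsRetrocompact U} :=
    ⟨isOpen_empty, IsRetrocompact.empty⟩
  have htop : (⊤ : Set T) ∈ {U : Set T | IsOpen U ∧ IsRetrocompact U} :=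
    ⟨isOpen_univ, IsRetrocompact.univ⟩
  rw [BooleanSubalgebra.mem_closure_iff_sup_sdiff hsub hbot htop] at key
  obtain ⟨t, rfl⟩ := key
  rw [Finset.sup_set_eq_biUnion] at hp ⊢
  obtain ⟨x, hx, hpx⟩ := Set.mem_iUnion₂.1 hp
  exact ⟨_, Set.subset_biUnion_of_mem (u := fun y => y.1.1 \ y.2.1) hx,
    x.1.2.1.isLocallyClosed.inter x.2.2.1.isClosed_compl.isLocallyClosed, hpx⟩

variable {k : Type u} [Field k] {S X : Scheme.{u}}
  (q : X ⟶ Spec (CommRingCat.of k)) [LocallyOfFiniteType q] [QuasiCompact q]
  (f : S ⟶ X) [LocallyOfFiniteType f] [QuasiCompact f]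

theorem rd_le_dim_range (η : S) :
    ((FibDim.rd q (f η) : ℕ∞) : WithBot ℕ∞) ≤ topologicalKrullDim ↥(Set.range f) := by
  haveI : IsLocallyNoetherian X := LocallyOfFiniteType.isLocallyNoetherian q
  haveI : CompactSpace X := QuasiCompact.compactSpace_of_compactSpace q
  haveI : IsNoetherian X := {}
  haveI : CompactSpace S := QuasiCompact.compactSpace_of_compactSpace f
  have hc : IsConstructible (Set.range f) := by
    rw [← Set.image_univ]
    exact f.isConstructible_image IsConstructible.univ
  obtain ⟨L, hL, hLC, hmem⟩ := exists_isLocallyClosed_mem hc (Set.mem_range_self η)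
  exact (CharCycDim.le_dim q hLC hmem).trans
    ((IsEmbedding.inclusion hL).isInducing.topologicalKrullDim_le)

include q in
/-- There is a point of each fibre whose local ring has dimension at most that of the image. -/
theorem exists_ringKrullDim_le (x : S) :
    ∃ z : S, f z = f x ∧
      ringKrullDim (S.presheaf.stalk z) ≤ topologicalKrullDim ↥(Set.range f) := by
  haveI : IsLocallyNoetherian X := LocallyOfFiniteType.isLocallyNoetherian q
  haveI : IsLocallyNoetherian S := LocallyOfFiniteType.isLocallyNoetherian f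
  obtain ⟨z, -, hfz, hm, -⟩ := FibDim.exists_fibMax_generization f x
  refine ⟨z, hfz, ?_⟩
  obtain ⟨η, hη, -, he⟩ := DimFormula.exists_maximal_cd_eq_codim z
  have h1 := (DimFormula.cd_formula (f ≫ q) hη).1
  have h2 : DimFormula.cd ((f ≫ q) η) ((f ≫ q) z) = 0 :=
    (DimFormula.cd_eq_zero_iff (hη.map (f ≫ q).continuous)).2 (Subsingleton.elim _ _)
  have h3 := DimFormula.rd_le_of_specializes' f hη
  rw [(DimFormula.fb_eq_zero_iff f z).2 hm, add_zero] at h3
  rw [h2, zero_add, he, FibDim.rd_comp, FibDim.rd_comp] at h1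
  rw [DimFormula.ringKrullDim_stalk]
  refine le_trans ?_ (rd_le_dim_range q f η)
  have h4 : DimFormula.codim z ≤ FibDim.rd q (f η) := by omega
  exact_mod_cast h4

end Groth.Agent.DimImage
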